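import Groth.Agent.MagnetLib.VB.Sym
import Groth.Agent.MagnetLib.Homotopy.Main
import Mathlib.AlgebraicGeometry.Morphisms.Smooth

/-!
# Affine pieces of an attractor over a face are vector bundles
-/

set_option autoImplicit false
set_option linter.style.haveILetI false

universe u

open CategoryTheory CategoryTheory.Limits MonoidalCategory CartesianMonoidalCategory MonObj AlgebraicGeometry
open Opposite Magnet

namespace Groth.Agent.MagnetLib.VB

open H23.CharPts H23.AttrComapGrp Homotopy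

variable {S : Scheme.{u}} {M : Type} [AddCommGroup M] {N F : AddSubmonoid M}

theorem tr_tr {T : Over S} (m m' : T ⟶ AMonS S N) : Avg.tr T m ≫ Avg.tr T m' = Avg.tr T (m * m') := by
  apply hom_ext_lift₂
  intro V b t
  simp only [Avg.tr, comp_lift, MonObj.comp_mul, lift_fst, lift_snd, lift_snd_assoc, lift_fst_assoc, ← Category.assoc]
  rw [_root_.mul_assoc]

theorem pt_mul (L : N →+ ℕ) (T : Over S) (c d : Γ(T.left, ⊤)) : pt L T c * pt L T d = pt L T (d * c) := by
  refine chi_injective (MonoidHom.ext fun n => ?_)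
  rw [chi_mul, chi_pt, chi_pt, chi_pt, mul_pow, _root_.mul_comm]

variable [AddGroup.FG M]

/-- The deformation retraction, as an action of the multiplicative monoid of the line. -/
theorem exists_homotopy_comp (hN : N.FG) (hF : IsFace N F) {X : Over S} (a : MonAct (AMonS S M) X) :
    ∃ δ : ∀ T : Over S, (attr a N).obj (op T) → Γ(T.left, ⊤) → (attr a N).obj (op T),
      (∀ (T T' : Over S) (t : T' ⟶ T) (x : (attr a N).obj (op T)) (c : Γ(T.left, ⊤)),
          δ T' ((attr a N).map t.op x) (t.left.appTop c) = (attr a N).map t.op (δ T x c)) ∧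
      (∀ (T : Over S) (x : (attr a N).obj (op T)),
          δ T x 0 = (attrMap a hF.le).app (op T) ((attrFace a hF).app (op T) x)) ∧
      (∀ (T : Over S) (x : (attr a N).obj (op T)), δ T x 1 = x) ∧
      (∀ (T : Over S) (x : (attr a N).obj (op T)) (c d : Γ(T.left, ⊤)), δ T (δ T x c) d = δ T x (c * d)) ∧
      (∀ (T : Over S) (x : (attr a N).obj (op T)) (c : Γ(T.left, ⊤)),
          (attrFace a hF).app (op T) (δ T x c) = (attrFace a hF).app (op T) x) := by
  obtain ⟨L, hL⟩ := exists_grading hN hF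
  let δ : ∀ T : Over S, (attr a N).obj (op T) → Γ(T.left, ⊤) → (attr a N).obj (op T) :=
    fun T x c => ⟨Avg.tr T (pt L T c) ≫ x.1, (tr_equivariant (pt L T c)).comp x.2⟩
  have h2 : ∀ (T : Over S) (x : (attr a N).obj (op T)),
      δ T x 0 = (attrMap a hF.le).app (op T) ((attrFace a hF).app (op T) x) := fun T x => Subtype.ext (by
    show Avg.tr T (pt L T 0) ≫ x.1 = (AMonS.map S (AddSubmonoid.inclusion hF.le) ▷ T) ≫ (AMonS.faceMap S hF ▷ T) ≫ x.1
    rw [tr_zero L hF hL, Category.assoc])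
  have h4 : ∀ (T : Over S) (x : (attr a N).obj (op T)) (c d : Γ(T.left, ⊤)), δ T (δ T x c) d = δ T x (c * d) :=
    fun T x c d => Subtype.ext (by
      show Avg.tr T (pt L T d) ≫ Avg.tr T (pt L T c) ≫ x.1 = Avg.tr T (pt L T (c * d)) ≫ x.1
      rw [← Category.assoc, tr_tr, pt_mul])
  refine ⟨δ, fun T T' t x c => Subtype.ext ?_, h2, fun T x => Subtype.ext ?_, h4, fun T x c => ?_⟩
  · show Avg.tr T' (pt L T' (t.left.appTop c)) ≫ (AMonS S N ◁ t) ≫ x.1 = (AMonS S N ◁ t) ≫ Avg.tr T (pt L T c) ≫ x.1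
    rw [← Category.assoc, ← Category.assoc]
    congr 1
    apply hom_ext_lift₂
    intro V b s
    rw [comp_lift_assoc, lift_whiskerLeft, lift_whiskerLeft_assoc, comp_lift, MonObj.comp_mul, MonObj.comp_mul, lift_fst,
      lift_fst, lift_snd, lift_snd, lift_snd_assoc, lift_snd_assoc, ← comp_pt L t c, Category.assoc]
  · show Avg.tr T (pt L T 1) ≫ x.1 = x.1
    rw [show Avg.tr T (pt L T 1) = 𝟙 _ by
      rw [Avg.tr, pt_one, MonObj.comp_one, _root_.mul_one, lift_fst_snd], Category.id_comp]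
  · have hff : ∀ y, (attrFace a hF).app (op T) ((attrMap a hF.le).app (op T) y) = y := fun y =>
      ConcreteCategory.congr_hom (NatTrans.congr_app (attrMap_comp_attrFace a hF) (op T)) y
    have h := congrArg ((attrFace a hF).app (op T)) (h4 T x c 0)
    rw [h2, mul_zero, h2, hff, hff] at h
    exact h

variable {X : Over S} (a : MonAct (AMonS S M) X)

/-- Affine pieces of the attractor over the attractor of a face are vector bundles. -/
theorem exists_symmetricAlgebra (hN : N.FG) (hF : IsFace N F) {ZN Z0 : Over S} (eN : (attr a N).RepresentableBy ZN)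
    (e0 : (attr a F).RepresentableBy Z0) (j : ZN ⟶ Z0)
    (hj : ∀ (T : Over S) (z : T ⟶ ZN), e0.homEquiv (z ≫ j) = (attrFace a hF).app (op T) (eN.homEquiv z))
    {P W : Over S} (p : P ⟶ ZN) (w : W ⟶ Z0) (q : P ⟶ W) (hsq : IsPullback p q j w) [IsAffine P.left] [Smooth q.left]
    (C : Type u) [CommRing C] (eW : W.left ≅ Spec (CommRingCat.of C)) :
    ∃ (Q : Type u) (_ : AddCommGroup Q) (_ : Module C Q),
      Module.Finite C Q ∧ Module.Projective C Q ∧
      ∃ e : P.left ≅ Spec (CommRingCat.of (SymmetricAlgebra C Q)),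
        e.hom ≫ Spec.map (CommRingCat.ofHom (algebraMap C (SymmetricAlgebra C Q))) = q.left ≫ eW.hom := by
  obtain ⟨δ, δnat, δ0, δ1, δc, δf⟩ := exists_homotopy_comp hN hF a
  -- the action of the line on points of `P`
  have hz : ∀ (T : Over S) (t : T ⟶ P) (c : Γ(T.left, ⊤)),
      eN.homEquiv.symm (δ T (eN.homEquiv (t ≫ p)) c) ≫ j = (t ≫ q) ≫ w := fun T t c => by
    apply e0.homEquiv.injective
    rw [hj, Equiv.apply_symm_apply, δf, ← hj, Category.assoc, Category.assoc, hsq.w]
  let D : ∀ (T : Over S), (T ⟶ P) → Γ(T.left, ⊤) → (T ⟶ P) := fun T t c => hsq.lift _ _ (hz T t c)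
  have Dp : ∀ T t c, D T t c ≫ p = eN.homEquiv.symm (δ T (eN.homEquiv (t ≫ p)) c) := fun T t c => hsq.lift_fst _ _ _
  have Dq : ∀ T t c, D T t c ≫ q = t ≫ q := fun T t c => hsq.lift_snd _ _ _
  have Dnat : ∀ (T T' : Over S) (u : T' ⟶ T) t c, D T' (u ≫ t) (u.left.appTop c) = u ≫ D T t c := fun T T' u t c => by
    apply hsq.hom_ext
    · apply eN.homEquiv.injective
      rw [Category.assoc, Dp, Equiv.apply_symm_apply, eN.homEquiv_comp u, Dp, Equiv.apply_symm_apply, Category.assoc,
        eN.homEquiv_comp u, δnat]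
    · rw [Category.assoc, Dq, Dq, Category.assoc]
  have D1 : ∀ T t, D T t 1 = t := fun T t => by
    apply hsq.hom_ext
    · rw [Dp, δ1, Equiv.symm_apply_apply]
    · rw [Dq]
  have hσ0 : eN.homEquiv.symm ((attrMap a hF.le).app (op W) (e0.homEquiv w)) ≫ j = 𝟙 W ≫ w := by
    apply e0.homEquiv.injective
    rw [hj, Equiv.apply_symm_apply, Category.id_comp]
    exact ConcreteCategory.congr_hom (NatTrans.congr_app (attrMap_comp_attrFace a hF) (op W)) _
  let σ0 : W ⟶ P := hsq.lift _ _ hσ0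
  have D0 : ∀ T t, D T t 0 = (t ≫ q) ≫ σ0 := fun T t => by
    apply hsq.hom_ext
    · apply eN.homEquiv.injective
      rw [Dp, Equiv.apply_symm_apply, Category.assoc (t ≫ q), hsq.lift_fst, eN.homEquiv_comp (t ≫ q),
        Equiv.apply_symm_apply, δ0, ← hj]
      rw [Category.assoc, hsq.w, ← Category.assoc, e0.homEquiv_comp (t ≫ q)]
      exact ConcreteCategory.congr_hom ((attrMap a hF.le).naturality (t ≫ q).op) _
    · rw [Dq, Category.assoc (t ≫ q), hsq.lift_snd, Category.comp_id]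
  have DD : ∀ T t c d, D T (D T t c) d = D T t (c * d) := fun T t c d => by
    apply hsq.hom_ext
    · rw [Dp, Dp, Dp, Equiv.apply_symm_apply, δc]
    · rw [Dq, Dq, Dq]
  -- translation to rings
  let B : CommRingCat.{u} := Γ(P.left, ⊤)
  let iP := P.left.isoSpec
  let TR : ∀ {R : CommRingCat.{u}}, (B ⟶ R) → Over S := fun g => Over.mk (Spec.map g ≫ iP.inv ≫ P.hom)
  let pg : ∀ {R : CommRingCat.{u}} (g : B ⟶ R), TR g ⟶ P := fun g => Over.homMk (Spec.map g ≫ iP.inv) (Category.assoc _ _ _)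
  let Δ : ∀ {R : CommRingCat.{u}}, (B ⟶ R) → R → (B ⟶ R) := fun {R} g c =>
    Spec.preimage ((D (TR g) (pg g) ((Scheme.ΓSpecIso R).inv c)).left ≫ iP.hom)
  have hΔ : ∀ {R : CommRingCat.{u}} (g : B ⟶ R) (c : R),
      Spec.map (Δ g c) ≫ iP.inv = (D (TR g) (pg g) ((Scheme.ΓSpecIso R).inv c)).left := fun g c => by
    show Spec.map (Spec.preimage _) ≫ _ = _
    rw [Spec.map_preimage, Category.assoc, Iso.hom_inv_id, Category.comp_id]
  have hext : ∀ {R : CommRingCat.{u}} (g g' : B ⟶ R), Spec.map g ≫ iP.inv = Spec.map g' ≫ iP.inv → g = g' :=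
    fun g g' h => Spec.map_injective ((cancel_mono iP.inv).mp h)
  have Δnat : ∀ {R R' : CommRingCat.{u}} (h : R ⟶ R') (g : B ⟶ R) (c : R), Δ (g ≫ h) (h c) = Δ g c ≫ h := by
    intro R R' h g c
    let u : TR (g ≫ h) ⟶ TR g := Over.homMk (Spec.map h) (by
      show Spec.map h ≫ Spec.map g ≫ _ = Spec.map (g ≫ h) ≫ _
      rw [Spec.map_comp, Category.assoc])
    have hu : u ≫ pg g = pg (g ≫ h) := Over.OverMorphism.ext (by
      show Spec.map h ≫ Spec.map g ≫ iP.inv = Spec.map (g ≫ h) ≫ iP.inv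
      rw [Spec.map_comp, Category.assoc])
    apply hext
    rw [hΔ, Spec.map_comp, Category.assoc, hΔ, ← hu,
      show (Scheme.ΓSpecIso R').inv (h c) = u.left.appTop ((Scheme.ΓSpecIso R).inv c) from
        ConcreteCategory.congr_hom (Scheme.ΓSpecIso_inv_naturality h) c, Dnat]
    rfl
  let κ : CommRingCat.of C ⟶ B := Spec.preimage (iP.inv ≫ q.left ≫ eW.hom)
  let sR : B ⟶ CommRingCat.of C := Spec.preimage (eW.inv ≫ σ0.left ≫ iP.hom)
  have hκ : Spec.map κ = iP.inv ≫ q.left ≫ eW.hom := Spec.map_preimage _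
  have hsR : Spec.map sR = eW.inv ≫ σ0.left ≫ iP.hom := Spec.map_preimage _
  have hκs : κ ≫ sR = 𝟙 _ := by
    apply Spec.map_injective
    have h0 : σ0.left ≫ q.left = 𝟙 _ := congrArg Over.Hom.left (hsq.lift_snd _ _ hσ0)
    simp [hκ, hsR, reassoc_of% h0]
  have Δκ : ∀ {R : CommRingCat.{u}} (g : B ⟶ R) (c : R), κ ≫ Δ g c = κ ≫ g := fun {R} g c => by
    apply Spec.map_injective
    have h1 : (D (TR g) (pg g) ((Scheme.ΓSpecIso R).inv c)).left ≫ q.left = (Spec.map g ≫ iP.inv) ≫ q.left :=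
      congrArg Over.Hom.left (Dq _ (pg g) _)
    rw [← hΔ] at h1
    simp only [Spec.map_comp, hκ]
    simpa only [Category.assoc] using congrArg (· ≫ eW.hom) h1
  have Δ1 : ∀ {R : CommRingCat.{u}} (g : B ⟶ R), Δ g 1 = g := fun g => by
    apply hext
    rw [hΔ, map_one, D1]
    rfl
  have Δ0 : ∀ {R : CommRingCat.{u}} (g : B ⟶ R), Δ g 0 = sR ≫ κ ≫ g := fun g => by
    apply hext
    rw [hΔ, map_zero, D0]
    show ((Spec.map g ≫ iP.inv) ≫ q.left) ≫ σ0.left = _
    simp [hκ, hsR]
  have ΔΔ : ∀ {R : CommRingCat.{u}} (g : B ⟶ R) (c d : R), Δ (Δ g c) d = Δ g (c * d) := by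
    intro R g c d
    let t := D (TR g) (pg g) ((Scheme.ΓSpecIso R).inv c)
    let u : TR (Δ g c) ⟶ TR g := Over.homMk (𝟙 _) (by
      show 𝟙 _ ≫ Spec.map g ≫ iP.inv ≫ P.hom = Spec.map (Δ g c) ≫ iP.inv ≫ P.hom
      rw [Category.id_comp, ← Category.assoc (Spec.map (Δ g c)), hΔ]
      exact (Over.w t).symm)
    have hu : u ≫ t = pg (Δ g c) := Over.OverMorphism.ext (by
      show 𝟙 _ ≫ t.left = Spec.map (Δ g c) ≫ iP.inv
      rw [Category.id_comp, hΔ])
    apply hext
    rw [hΔ, hΔ, ← hu, show (Scheme.ΓSpecIso R).inv d = u.left.appTop ((Scheme.ΓSpecIso R).inv d) from by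
      show _ = (𝟙 (Spec R) : Spec R ⟶ Spec R).appTop _
      rw [Scheme.Hom.id_appTop]; rfl, Dnat, DD, ← map_mul]
    exact Category.id_comp _
  -- the coaction
  let PB : CommRingCat.{u} := CommRingCat.of (Polynomial B)
  let inc : B ⟶ PB := CommRingCat.ofHom Polynomial.C
  let sg : B ⟶ PB := Δ inc Polynomial.X
  have hsg : ∀ {R : CommRingCat.{u}} (g : B ⟶ R) (c : R),
      Δ g c = sg ≫ CommRingCat.ofHom (Polynomial.eval₂RingHom g.hom c) := fun {R} g c => by
    have := Δnat (CommRingCat.ofHom (Polynomial.eval₂RingHom g.hom c)) inc Polynomial.X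
    rwa [show inc ≫ CommRingCat.ofHom (Polynomial.eval₂RingHom g.hom c) = g from
        CommRingCat.hom_ext (RingHom.ext fun b => Polynomial.eval₂_C _ _),
      show (CommRingCat.ofHom (Polynomial.eval₂RingHom g.hom c)) Polynomial.X = c from Polynomial.eval₂_X _ _] at this
  letI : Algebra C B := κ.hom.toAlgebra
  let s : B →ₐ[C] C := { sR.hom with commutes' := fun r => ConcreteCategory.congr_hom hκs r }
  let σ : B →ₐ[C] Polynomial B :=
    { sg.hom with commutes' := fun r => ConcreteCategory.congr_hom (Δκ inc Polynomial.X) r }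
  have hσ : IsContraction s σ := by
    refine ⟨fun b => ?_, fun b => ?_, fun b n => ?_⟩
    · have h := ConcreteCategory.congr_hom ((hsg (𝟙 B) 1).symm.trans (Δ1 (𝟙 B))) b
      exact h
    · have h := ConcreteCategory.congr_hom ((hsg (𝟙 B) 0).symm.trans (Δ0 (𝟙 B))) b
      exact h
    · let Q : CommRingCat.{u} := CommRingCat.of (Polynomial (Polynomial B))
      let cc : B ⟶ Q := CommRingCat.ofHom (Polynomial.C.comp Polynomial.C)
      have h := ΔΔ cc (Polynomial.C Polynomial.X : Polynomial (Polynomial B)) Polynomial.X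
      have hg' : Δ cc (Polynomial.C Polynomial.X : Polynomial (Polynomial B)) =
          CommRingCat.ofHom (Polynomial.C.comp sg.hom) :=
        Δnat (CommRingCat.ofHom Polynomial.C : PB ⟶ Q) inc Polynomial.X
      rw [hg', hsg, hsg cc] at h
      have hb : Polynomial.map sg.hom (sg b) =
          Polynomial.eval₂ (Polynomial.C.comp Polynomial.C) (Polynomial.C Polynomial.X * Polynomial.X) (sg b) :=
        ConcreteCategory.congr_hom h b
      have hcoef := congrArg (fun p => Polynomial.coeff p n) hb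
      simp only [Polynomial.coeff_map] at hcoef
      refine hcoef.trans ?_
      show _ = Polynomial.monomial n (Polynomial.coeff (sg b) n)
      induction sg b using Polynomial.induction_on' with
      | add p p' hp hp' => rw [Polynomial.eval₂_add, Polynomial.coeff_add, hp, hp', Polynomial.coeff_add, map_add]
      | monomial m r =>
        rw [Polynomial.eval₂_monomial, RingHom.comp_apply, mul_pow, ← map_pow, ← _root_.mul_assoc, ← map_mul,
          Polynomial.coeff_C_mul_X_pow, Polynomial.coeff_monomial, Polynomial.C_mul_X_pow_eq_monomial]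
        by_cases hnm : n = m
        · subst hnm; simp
        · simp [hnm, Ne.symm hnm]
  have hsm : κ.hom.Smooth := by
    haveI : Smooth (Spec.map κ) := by rw [hκ]; infer_instance
    exact (HasRingHomProperty.Spec_iff (P := @Smooth)).mp ‹_›
  haveI : Algebra.Smooth C B := hsm
  haveI : Algebra.FiniteType C B := inferInstance
  obtain ⟨φ⟩ := exists_equiv hσ
  obtain ⟨t, ht⟩ := exists_span s
  classical
  refine ⟨Conormal s, inferInstance, inferInstance, ⟨⟨t.image _, by rw [Finset.coe_image]; exact ht⟩⟩, projective s, ?_⟩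
  let f : CommRingCat.of (SymmetricAlgebra C (Conormal s)) ≅ B := φ.toRingEquiv.toCommRingCatIso
  refine ⟨iP ≪≫ (Scheme.Spec.mapIso f.op), ?_⟩
  have hf : CommRingCat.ofHom (algebraMap C (SymmetricAlgebra C (Conormal s))) ≫ f.hom = κ :=
    CommRingCat.hom_ext (RingHom.ext fun r => φ.commutes r)
  show (iP.hom ≫ Spec.map f.hom) ≫ Spec.map _ = _
  rw [Category.assoc, ← Spec.map_comp, hf, hκ, Iso.hom_inv_id_assoc]

end Groth.Agent.MagnetLib.VB
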