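import Groth.Agent.MagnetLib.VB.Core
import Groth.Agent.H28.MagnetPure
import Groth.Agent.H28.AttrOpen
import Groth.Agent.S18241
import Groth.Agent.S18295

/-!
# The attractor of a smooth locally linearizable action is a vector bundle over its face
-/

set_option autoImplicit false
set_option linter.style.haveILetI false

universe u

open CategoryTheory CategoryTheory.Limits MonoidalCategory CartesianMonoidalCategory MonObj AlgebraicGeometry
open Opposite Magnet

namespace Groth.Agent.MagnetLib.VB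

open H23.CharPts H23.AttrComapGrp Homotopy H28

variable {S : Scheme.{u}} {M : Type} [AddCommGroup M] {X : Over S}

/-- The action restricted to a stable open subscheme. -/
theorem exists_openAct (a : MonAct (AMonS S M) X) (V : X.left.Opens)
    (hV : (snd (AMonS S M) X).left ⁻¹ᵁ V ≤ a.act.left ⁻¹ᵁ V) :
    ∃ aV : MonAct (AMonS S M) (Over.mk (V.ι ≫ X.hom)),
      MonAct.IsEquivariant aV a (Over.homMk V.ι rfl : Over.mk (V.ι ≫ X.hom) ⟶ X) := by
  let Vo : Over S := Over.mk (V.ι ≫ X.hom)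
  let jv : Vo ⟶ X := Over.homMk V.ι rfl
  haveI : IsOpenImmersion jv.left := inferInstanceAs (IsOpenImmersion V.ι)
  haveI : Mono jv := (Over.forget S).mono_of_mono_map (inferInstanceAs (Mono jv.left))
  obtain ⟨act, hact⟩ := StableOpen.exists_lift jv ((AMonS S M ◁ jv) ≫ a.act) (by
    rintro _ ⟨y, rfl⟩
    rw [show Set.range jv.left = Set.range V.ι from rfl, Scheme.Opens.range_ι]
    refine hV (show (snd (AMonS S M) X).left ((AMonS S M ◁ jv).left y) ∈ V from ?_)
    rw [← Scheme.Hom.comp_apply, ← Over.comp_left, whiskerLeft_snd, Over.comp_left, Scheme.Hom.comp_apply]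
    exact ((snd (AMonS S M) Vo).left y).2)
  refine ⟨{ act := act, one_act := ?_, mul_act := ?_ }, hact⟩
  · rw [← cancel_mono jv, Category.assoc, hact, ← whisker_exchange_assoc, a.one_act, leftUnitor_naturality]
  · rw [← cancel_mono jv, Category.assoc, Category.assoc, Category.assoc, hact, ← whiskerLeft_comp_assoc]
    erw [hact]
    rw [whiskerLeft_comp, Category.assoc, ← whisker_exchange_assoc, a.mul_act, associator_naturality_right_assoc]

variable [AddGroup.FG M]

theorem vectorBundle [LocallyOfFinitePresentation X.hom] [Smooth X.hom]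
    (a : MonAct (AMonS S M) X)
    (hlin : ∀ x : X.left, ∃ V : X.left.Opens, x ∈ V ∧ IsAffineHom (V.ι ≫ X.hom) ∧
      (snd (AMonS S M) X).left ⁻¹ᵁ V ≤ a.act.left ⁻¹ᵁ V)
    (N F : AddSubmonoid M) (hF : IsFace N F) (hFneg : ∀ n ∈ F, -n ∈ F) (hFN : ∀ m ∈ N, -m ∈ N → m ∈ F)
    {ZN Z0 : Over S} (eN : (attr a N).RepresentableBy ZN) (e0 : (attr a F).RepresentableBy Z0)
    (j : ZN ⟶ Z0) (hj : ∀ (T : Over S) (z : T ⟶ ZN), e0.homEquiv (z ≫ j) = (attrFace a hF).app (op T) (eN.homEquiv z))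
    (z : Z0.left) :
    ∃ (W : Z0.left.Opens) (hW : IsAffineOpen W), z ∈ W ∧
      ∃ (P : Type u) (_ : AddCommGroup P) (_ : Module Γ(Z0.left, W) P),
        Module.Finite Γ(Z0.left, W) P ∧ Module.Projective Γ(Z0.left, W) P ∧
        ∃ e : (↑(j.left ⁻¹ᵁ W) : Scheme.{u}) ≅ Spec (CommRingCat.of (SymmetricAlgebra Γ(Z0.left, W) P)),
          e.hom ≫ Spec.map (CommRingCat.ofHom (algebraMap Γ(Z0.left, W) (SymmetricAlgebra Γ(Z0.left, W) P))) =
            (j.left ∣_ W) ≫ hW.isoSpec.hom := by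
  classical
  -- a stable affine neighbourhood of the point in `X`
  let r0 : Z0 ⟶ X := (attrToX a F).app (op Z0) (e0.homEquiv (𝟙 Z0))
  obtain ⟨V, hxV, hVa, hVs⟩ := hlin (r0.left z)
  obtain ⟨aV, hjv⟩ := exists_openAct a V hVs
  let Vo : Over S := Over.mk (V.ι ≫ X.hom)
  let jv : Vo ⟶ X := Over.homMk V.ι rfl
  haveI : IsOpenImmersion jv.left := inferInstanceAs (IsOpenImmersion V.ι)
  haveI : Mono jv := (Over.forget S).mono_of_mono_map (inferInstanceAs (Mono jv.left))
  haveI : IsAffineHom Vo.hom := hVa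
  haveI : Smooth Vo.hom := inferInstanceAs (Smooth (V.ι ≫ X.hom))
  haveI : LocallyOfFiniteType Vo.hom := inferInstance
  obtain ⟨S0, hS0, hxS0, -⟩ := TopologicalSpace.Opens.isBasis_iff_nbhd.mp S.isBasis_affineOpens (U := ⊤)
    (x := Z0.hom z) trivial
  let U0 : Vo.left.affineOpens := ⟨Vo.hom ⁻¹ᵁ S0, IsAffineOpen.preimage hS0 Vo.hom⟩
  obtain ⟨E, hE⟩ := MagnetAff.exists_degrees aV U0
  -- a finitely generated submonoid with the same units
  let N' : AddSubmonoid M := AddSubmonoid.closure (E.filter (· ∈ N) : Set M) ⊔ F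
  have hN'N : N' ≤ N := sup_le (AddSubmonoid.closure_le.mpr fun m hm => (Finset.mem_filter.mp hm).2) hF.le
  have hiff : ∀ m ∈ E, m ∈ N ↔ m ∈ N' := fun m hm =>
    ⟨fun h => AddSubmonoid.mem_sup_left (AddSubmonoid.subset_closure (Finset.mem_filter.mpr ⟨hm, h⟩)), fun h => hN'N h⟩
  have hF' : IsFace N' F :=
    ⟨le_sup_right, fun x hx y hy h => hF.mem_of_add_mem x (hN'N hx) y (hN'N hy) h⟩
  have hFfg : F.FG := by
    have hu : (StableFace.units N).toAddSubmonoid = F := AddSubmonoid.ext fun m =>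
      ⟨fun h => hFN m h.1 h.2, fun h => ⟨hF.le h, hF.le (hFneg m h)⟩⟩
    rw [← hu, ← AddSubgroup.fg_iff_addSubmonoid_fg]
    haveI : Module.Finite ℤ M := Module.Finite.iff_addGroup_fg.mpr ‹_›
    exact (Submodule.fg_iff_addSubgroup_fg _).mp (IsNoetherian.noetherian (AddSubgroup.toIntSubmodule (StableFace.units N)))
  have hN'fg : N'.FG := AddSubmonoid.FG.sup ⟨_, rfl⟩ hFfg
  -- attractors of the stable affine open
  obtain ⟨ZN', iN', eN', hclN, hiN⟩ := S18295.result S M N' Vo aV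
  obtain ⟨Z0', i0', e0', hcl0, hi0⟩ := S18295.result S M F Vo aV
  haveI := hclN
  haveI := hcl0
  haveI : IsAffineHom Z0'.hom := by rw [← Over.w i0']; infer_instance
  haveI : IsAffineHom ZN'.hom := by rw [← Over.w iN']; infer_instance
  let j' : ZN' ⟶ Z0' := e0'.homEquiv.symm ((attrFace aV hF').app (op ZN') (eN'.homEquiv (𝟙 ZN')))
  have hj' : ∀ (T : Over S) (y : T ⟶ ZN'), e0'.homEquiv (y ≫ j') = (attrFace aV hF').app (op T) (eN'.homEquiv y) :=
    fun T y => by
      rw [e0'.homEquiv_comp, Equiv.apply_symm_apply, eN'.homEquiv_eq y]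
      exact (ConcreteCategory.congr_hom ((attrFace aV hF').naturality y.op) _).symm
  haveI : Smooth j'.left := S18241.result S M hF' aV eN' e0' j' hj'
  haveI : IsAffineHom (j'.left ≫ Z0'.hom) := by rw [Over.w j']; infer_instance
  haveI : IsAffineHom j'.left := IsAffineHom.of_comp j'.left Z0'.hom
  -- comparison with the attractors of `X`
  let o0 : Z0' ⟶ Z0 := e0.homEquiv.symm ((MonAct.eqvHom.postcomp (subAct S M F) jv hjv).app (op Z0') (e0'.homEquiv (𝟙 Z0')))
  have ho0 : ∀ (T : Over S) (y : T ⟶ Z0'),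
      e0.homEquiv (y ≫ o0) = (MonAct.eqvHom.postcomp (subAct S M F) jv hjv).app (op T) (e0'.homEquiv y) := fun T y => by
    rw [e0.homEquiv_comp, Equiv.apply_symm_apply, e0'.homEquiv_eq y]
    exact (ConcreteCategory.congr_hom ((MonAct.eqvHom.postcomp (subAct S M F) jv hjv).naturality y.op) _).symm
  let eF : 𝟙_ (Over S) ⟶ AMonS S F := η[AMonS S F]
  have h1 : ∀ (T : Over S) (n : F), chi (toUnit T ≫ eF) (Multiplicative.ofAdd n) = 1 := fun T n => by
    show chi (toUnit T ≫ η[AMonS S F]) _ = 1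
    rw [← Hom.one_def, chi_one]
  have heF : StableOpen.StablePt (subAct S M F) eF := StableFace.stablePt F fun T n =>
    ⟨fun _ => h1 T n, fun h => absurd (hFneg _ n.2) h⟩
  have heN : StableOpen.StablePt (subAct S M N) (eF ≫ AMonS.faceMap S hF) := StableFace.stablePt N fun T n => by
    rw [← Category.assoc]
    refine ⟨fun h => ?_, fun h => FaceThick.chi_face_notMem N F _ n fun hn => h (hF.le (hFneg _ hn))⟩
    rw [FaceThick.chi_face_mem N F _ n (hFN _ n.2 h)]
    exact h1 T _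
  haveI : IsOpenImmersion o0.left := AttrOpen.isOpenImmersion_of_representable jv hjv heF e0' e0 o0 ho0
  haveI : Mono o0 := (Over.forget S).mono_of_mono_map (inferInstanceAs (Mono o0.left))
  have hr0 : ∀ (T : Over S) (t : T ⟶ Z0), t ≫ r0 = (attrToX a F).app (op T) (e0.homEquiv t) := fun T t => by
    rw [e0.homEquiv_eq t]
    exact (ConcreteCategory.congr_hom ((attrToX a F).naturality t.op) _).symm
  have hr0' : ∀ (T : Over S) (y : T ⟶ Z0'), y ≫ o0 ≫ r0 = (attrToX aV F).app (op T) (e0'.homEquiv y) ≫ jv := fun T y => by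
    rw [← Category.assoc, hr0, ho0]
    exact (Category.assoc (lift (toUnit T ≫ η[AMonS S F]) (𝟙 T)) (e0'.homEquiv y).1 jv).symm
  have hfac : ∀ (T : Over S) (t : T ⟶ Z0), Set.range (t ≫ r0).left ⊆ Set.range jv.left → ∃ y, y ≫ o0 = t := by
    intro T t h
    obtain ⟨x, hx⟩ := StableOpen.exists_lift jv _ h
    obtain ⟨-, -, hex⟩ := (Types.isPullback_iff _ _ _ _).mp ((StableOpen.isPullback jv hjv heF).app (op T))
    obtain ⟨ψ, hψ, -⟩ := hex (e0.homEquiv t) x (by rw [hr0] at hx; exact hx.symm)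
    refine ⟨e0'.homEquiv.symm ψ, e0.homEquiv.injective ?_⟩
    rw [ho0, Equiv.apply_symm_apply]
    exact hψ
  -- the open neighbourhood
  let W : Z0.left.Opens := r0.left ⁻¹ᵁ V ⊓ Z0.hom ⁻¹ᵁ S0
  let Wo : Over S := Over.mk (W.ι ≫ Z0.hom)
  let wW : Wo ⟶ Z0 := Over.homMk W.ι rfl
  obtain ⟨w', hw'⟩ := hfac Wo wW (by
    rintro _ ⟨y, rfl⟩
    rw [show Set.range jv.left = Set.range V.ι from rfl, Scheme.Opens.range_ι]
    exact y.2.1)
  have hWimg : W = o0.left ''ᵁ (Z0'.hom ⁻¹ᵁ S0) := by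
    apply TopologicalSpace.Opens.ext
    ext y
    constructor
    · intro hy
      refine ⟨w'.left ⟨y, hy⟩, ?_, congrArg (fun q => q.left (⟨y, hy⟩ : W)) hw'⟩
      show Z0'.hom (w'.left ⟨y, hy⟩) ∈ S0
      rw [← Scheme.Hom.comp_apply, Over.w w']
      exact hy.2
    · rintro ⟨y', hy', rfl⟩
      refine ⟨?_, ?_⟩
      · show r0.left (o0.left y') ∈ V
        have := hr0' Z0' (𝟙 Z0')
        rw [Category.id_comp] at this
        rw [← Scheme.Hom.comp_apply, ← Over.comp_left, this]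
        exact ((((attrToX aV F).app (op Z0') (e0'.homEquiv (𝟙 Z0')))).left y').2
      · show Z0.hom (o0.left y') ∈ S0
        rw [← Scheme.Hom.comp_apply, Over.w o0]
        exact hy'
  have hW : IsAffineOpen W := hWimg ▸ (IsAffineOpen.preimage hS0 Z0'.hom).image_of_isOpenImmersion o0.left
  refine ⟨W, hW, ⟨hxV, hxS0⟩, ?_⟩
  -- the piece over it
  let Po : Over S := Over.mk ((j.left ⁻¹ᵁ W).ι ≫ ZN.hom)
  let pP : Po ⟶ ZN := Over.homMk (j.left ⁻¹ᵁ W).ι rfl
  let qP : Po ⟶ Wo := Over.homMk (j.left ∣_ W) (by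
    show (j.left ∣_ W) ≫ W.ι ≫ Z0.hom = (j.left ⁻¹ᵁ W).ι ≫ ZN.hom
    rw [← Category.assoc, morphismRestrict_ι, Category.assoc, Over.w j])
  have hPw : pP ≫ j = qP ≫ wW := Over.OverMorphism.ext (morphismRestrict_ι _ _).symm
  have hP : IsPullback pP qP j wW := IsPullback.of_map (Over.forget S) hPw (isPullback_morphismRestrict j.left W).flip
  let φ := eN.homEquiv pP
  have hval : (MonAct.eqvHom.evalAt (subAct S M N) a (eF ≫ AMonS.faceMap S hF)).app (op Po) φ =
      (attrToX a F).app (op Po) (e0.homEquiv (pP ≫ j)) := by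
    rw [hj]
    show lift (toUnit Po ≫ eF ≫ AMonS.faceMap S hF) (𝟙 Po) ≫ φ.1 =
      lift (toUnit Po ≫ η[AMonS S F]) (𝟙 Po) ≫ (AMonS.faceMap S hF ▷ Po) ≫ φ.1
    rw [lift_whiskerRight_assoc, Category.assoc]
  obtain ⟨-, -, hexN⟩ := (Types.isPullback_iff _ _ _ _).mp ((StableOpen.isPullback jv hjv heN).app (op Po))
  obtain ⟨φV, hφV, -⟩ := hexN φ ((attrToX aV F).app (op Po) (e0'.homEquiv (qP ≫ w'))) (by
    rw [hval, hPw, ← hw', ← Category.assoc, ← hr0, Category.assoc (qP ≫ w'), hr0']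
    rfl)
  -- it lies in the attractor of the smaller monoid
  have hin : MagnetAff.InAttr N' aV ((attrToX aV N).app (op Po) φV) := by
    refine MagnetAff.inAttr_of_cover N' aV _ Po.left.affineCover fun i => ?_
    let T : Over S := Over.mk (Po.left.affineCover.f i ≫ Po.hom)
    let u : T ⟶ Po := Over.homMk (Po.left.affineCover.f i) rfl
    haveI : IsAffine T.left := inferInstanceAs (IsAffine (Po.left.affineCover.X i))
    haveI : IsOpenImmersion (MagnetAff.opnι U0).left := inferInstanceAs (IsOpenImmersion U0.1.ι)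
    obtain ⟨t, ht⟩ := StableOpen.exists_lift (MagnetAff.opnι U0) (u ≫ (attrToX aV N).app (op Po) φV) (by
      rintro _ ⟨y, rfl⟩
      rw [show Set.range (MagnetAff.opnι U0).left = Set.range U0.1.ι from rfl, Scheme.Opens.range_ι]
      show Vo.hom ((u ≫ (attrToX aV N).app (op Po) φV).left y) ∈ S0
      rw [← Scheme.Hom.comp_apply, Over.w]
      show Po.hom (u.left y) ∈ S0
      rw [← Over.w qP, Scheme.Hom.comp_apply]
      exact (qP.left (u.left y)).2.2)
    show MagnetAff.InAttr N' aV (u ≫ (attrToX aV N).app (op Po) φV)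
    rw [← ht]
    refine hE N N' hiff T inferInstance t ?_
    rw [ht]
    exact (show MagnetAff.InAttr N aV _ from ⟨φV, rfl⟩).comp N aV u
  obtain ⟨φV', hφV'⟩ := hin
  have hmapV : (attrMap aV hN'N).app (op Po) φV' = φV := by
    refine MagnetLib.attrToX_injective aV N Po (Eq.trans ?_ hφV')
    show lift (toUnit Po ≫ η[AMonS S N]) (𝟙 Po) ≫ (AMonS.map S (AddSubmonoid.inclusion hN'N) ▷ Po) ≫ φV'.1 = _
    rw [lift_whiskerRight_assoc, Category.assoc, IsMonHom.one_hom]
    rfl
  let oN : ZN' ⟶ ZN := eN.homEquiv.symm ((MonAct.eqvHom.postcomp (subAct S M N) jv hjv).app (op ZN')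
    ((attrMap aV hN'N).app (op ZN') (eN'.homEquiv (𝟙 ZN'))))
  have hoN : ∀ (T : Over S) (y : T ⟶ ZN'), eN.homEquiv (y ≫ oN) =
      (MonAct.eqvHom.postcomp (subAct S M N) jv hjv).app (op T) ((attrMap aV hN'N).app (op T) (eN'.homEquiv y)) :=
    fun T y => by
      rw [eN.homEquiv_comp, Equiv.apply_symm_apply, eN'.homEquiv_eq y]
      exact (ConcreteCategory.congr_hom
        ((attrMap aV hN'N ≫ MonAct.eqvHom.postcomp (subAct S M N) jv hjv).naturality y.op) _).symm
  have hoNinj : ∀ (T : Over S) (y y' : T ⟶ ZN'), y ≫ oN = y' ≫ oN → y = y' := by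
    intro T y y' h
    have h2 := congrArg eN.homEquiv h
    rw [hoN, hoN] at h2
    have h3 : (attrMap aV hN'N).app (op T) (eN'.homEquiv y) = (attrMap aV hN'N).app (op T) (eN'.homEquiv y') :=
      Subtype.ext ((cancel_mono jv).mp (congrArg Subtype.val h2))
    refine eN'.homEquiv.injective (MagnetLib.attrToX_injective aV N' T ?_)
    have h4 := congrArg ((attrToX aV N).app (op T)) h3
    have h5 : ∀ x, (attrToX aV N).app (op T) ((attrMap aV hN'N).app (op T) x) = (attrToX aV N').app (op T) x := fun x => by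
      show lift (toUnit T ≫ η[AMonS S N]) (𝟙 T) ≫ (AMonS.map S (AddSubmonoid.inclusion hN'N) ▷ T) ≫ x.1 = _
      rw [lift_whiskerRight_assoc, Category.assoc, IsMonHom.one_hom]
      rfl
    rwa [h5, h5] at h4
  have hface : AMonS.faceMap S hF ≫ AMonS.map S (AddSubmonoid.inclusion hN'N) = AMonS.faceMap S hF' := by
    refine chi_injective (MonoidHom.ext fun n => ?_)
    obtain ⟨n, rfl⟩ := Multiplicative.ofAdd.surjective n
    rw [chi_map, ← Category.id_comp (AMonS.faceMap S hF), ← Category.id_comp (AMonS.faceMap S hF')]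
    show chi _ (Multiplicative.ofAdd (AddSubmonoid.inclusion hN'N n)) = _
    by_cases hn : (n : M) ∈ F
    · rw [FaceThick.chi_face_mem N F _ (AddSubmonoid.inclusion hN'N n) hn, FaceThick.chi_face_mem N' F _ n hn]
      rfl
    · rw [FaceThick.chi_face_notMem N F _ (AddSubmonoid.inclusion hN'N n) hn, FaceThick.chi_face_notMem N' F _ n hn]
  have hoj : oN ≫ j = j' ≫ o0 := by
    apply e0.homEquiv.injective
    have hA := hj ZN' oN
    have hB := hoN ZN' (𝟙 ZN')
    rw [Category.id_comp] at hB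
    rw [hA, hB, ho0, Equiv.apply_symm_apply]
    refine Subtype.ext ?_
    show (AMonS.faceMap S hF ▷ ZN') ≫ ((AMonS.map S (AddSubmonoid.inclusion hN'N) ▷ ZN') ≫ _) ≫ jv =
      ((AMonS.faceMap S hF' ▷ ZN') ≫ _) ≫ jv
    rw [Category.assoc, Category.assoc, ← comp_whiskerRight_assoc, hface]
  let p' : Po ⟶ ZN' := eN'.homEquiv.symm φV'
  have hp' : p' ≫ oN = pP := by
    apply eN.homEquiv.injective
    rw [hoN, Equiv.apply_symm_apply, hmapV]
    exact hφV
  have hpj : p' ≫ j' = qP ≫ w' := by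
    rw [← cancel_mono o0, Category.assoc, ← hoj, ← Category.assoc, hp', hPw, Category.assoc, hw']
  have hsq : IsPullback p' qP j' w' := by
    refine ⟨⟨hpj⟩, ⟨PullbackCone.IsLimit.mk hpj (fun c => hP.lift (c.fst ≫ oN) c.snd ?_) (fun c => ?_) (fun c => ?_) ?_⟩⟩
    · rw [Category.assoc, hoj, ← Category.assoc, c.condition, Category.assoc, hw']
    · exact hoNinj _ _ _ (by rw [Category.assoc, hp', hP.lift_fst])
    · exact hP.lift_snd _ _ _
    · intro c m h1 h2
      apply hP.hom_ext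
      · rw [hP.lift_fst, ← h1, Category.assoc, hp']
      · rw [hP.lift_snd, h2]
  have hsq' := hsq.map (Over.forget S)
  haveI : Smooth qP.left := MorphismProperty.of_isPullback hsq' ‹Smooth j'.left›
  haveI : IsAffineHom qP.left := MorphismProperty.of_isPullback hsq' ‹IsAffineHom j'.left›
  haveI : IsAffine Wo.left := hW
  haveI : IsAffine Po.left := isAffine_of_isAffineHom qP.left
  exact exists_symmetricAlgebra aV hN'fg hF' eN' e0' j' hj' p' w' qP hsq Γ(Z0.left, W) hW.isoSpec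

end Groth.Agent.MagnetLib.VB
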