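import Mathlib.LinearAlgebra.SymmetricAlgebra.Basic
import Mathlib.RingTheory.Smooth.Basic
import Mathlib.RingTheory.FiniteType
import Mathlib.Algebra.Polynomial.AlgebraMap
import Mathlib.Algebra.Module.Projective
import Mathlib.Algebra.TrivSqZeroExt.Basic

/-!
# A smooth algebra with a retraction and a contracting grading is a symmetric algebra

For a formally smooth algebra `B` of finite type over `C` with an augmentation `s` and a coaction
`σ : B → B[X]` of the multiplicative monoid of the line contracting `B` onto `C`, the algebra `B` is the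
symmetric algebra of the (finite projective) conormal module of `s`.
-/

set_option autoImplicit false
set_option linter.unusedSectionVars false

universe u

open Polynomial

namespace Groth.Agent.MagnetLib.VB

/-- A contracting coaction of the monoid of the line, with augmentation `s`. -/
structure IsContraction {C B : Type u} [CommRing C] [CommRing B] [Algebra C B] (s : B →ₐ[C] C)
    (σ : B →ₐ[C] B[X]) : Prop where
  eval_one : ∀ b, (σ b).eval 1 = b
  eval_zero : ∀ b, (σ b).eval 0 = algebraMap C B (s b)
  coassoc : ∀ b n, σ ((σ b).coeff n) = monomial n ((σ b).coeff n)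

variable {C B : Type u} [CommRing C] [CommRing B] [Algebra C B] (s : B →ₐ[C] C) (σ : B →ₐ[C] B[X])

/-- The component of degree `n`. -/
noncomputable def comp (n : ℕ) : B →ₗ[C] B := (lcoeff B n).restrictScalars C ∘ₗ σ.toLinearMap

@[simp] theorem comp_apply (n : ℕ) (b : B) : comp σ n b = (σ b).coeff n := rfl

/-- The submodule spanned by constants and the square of the augmentation ideal. -/
def rel : Submodule C B :=
  LinearMap.range (Algebra.linearMap C B) ⊔ ((RingHom.ker s * RingHom.ker s : Ideal B).restrictScalars C)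

/-- The conormal module. -/
abbrev Conormal : Type u := B ⧸ rel s

theorem algebraMap_mem_rel (c : C) : algebraMap C B c ∈ rel s := Submodule.mem_sup_left ⟨c, rfl⟩

theorem mul_mem_rel {a b : B} (ha : s a = 0) (hb : s b = 0) : a * b ∈ rel s :=
  Submodule.mem_sup_right (Ideal.mul_mem_mul ha hb)

theorem mk_mul (a b : B) : (Submodule.Quotient.mk (a * b) : Conormal s) =
    s a • Submodule.Quotient.mk b + s b • Submodule.Quotient.mk a := by
  rw [← Submodule.Quotient.mk_smul, ← Submodule.Quotient.mk_smul, ← Submodule.Quotient.mk_add, Submodule.Quotient.eq]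
  have h : a * b - (s a • b + s b • a) =
      (a - algebraMap C B (s a)) * (b - algebraMap C B (s b)) - algebraMap C B (s a * s b) := by
    rw [Algebra.smul_def, Algebra.smul_def, map_mul]; ring
  rw [h]
  exact sub_mem (mul_mem_rel s (by simp) (by simp)) (algebraMap_mem_rel s _)

theorem mem_sq_of_mk_eq_zero {d : B} (h : s d = 0) (hd : (Submodule.Quotient.mk d : Conormal s) = 0) :
    d ∈ RingHom.ker s * RingHom.ker s := by
  obtain ⟨c, ⟨r, rfl⟩, e, he, rfl⟩ := Submodule.mem_sup.mp ((Submodule.Quotient.mk_eq_zero _).mp hd)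
  replace he : e ∈ RingHom.ker s * RingHom.ker s := he
  have : s e = 0 := Ideal.mul_le_right he
  rw [map_add, this, add_zero, Algebra.linearMap_apply, AlgHom.commutes] at h
  rw [show r = 0 from h, map_zero, zero_add]
  exact he

/-- The conormal module of an algebra of finite type is finite. -/
theorem exists_span [Algebra.FiniteType C B] : ∃ t : Finset B,
    Submodule.span C ((fun b : B => (Submodule.Quotient.mk b : Conormal s)) '' (t : Set B)) = ⊤ := by
  obtain ⟨t, ht⟩ := Algebra.FiniteType.out (R := C) (A := B)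
  refine ⟨t, top_le_iff.mp fun x _ => ?_⟩
  obtain ⟨b, rfl⟩ := Submodule.Quotient.mk_surjective _ x
  have hb : b ∈ Algebra.adjoin C (t : Set B) := ht ▸ Algebra.mem_top
  induction hb using Algebra.adjoin_induction with
  | mem b hb => exact Submodule.subset_span ⟨b, hb, rfl⟩
  | algebraMap r =>
    rw [(Submodule.Quotient.mk_eq_zero _).mpr (algebraMap_mem_rel s r)]
    exact zero_mem _
  | add x y _ _ hx hy => rw [Submodule.Quotient.mk_add]; exact add_mem (hx trivial) (hy trivial)
  | mul x y _ _ hx hy =>
    rw [mk_mul]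
    exact add_mem (Submodule.smul_mem _ _ (hy trivial)) (Submodule.smul_mem _ _ (hx trivial))

/-- The conormal module of a formally smooth augmented algebra is projective. -/
theorem projective [Algebra.FormallySmooth C B] : Module.Projective C (Conormal s) := by
  refine Module.Projective.of_lifting_property'' fun f hf => ?_
  let E : Type u := Conormal s →₀ C
  letI : Module Cᵐᵒᵖ (Conormal s) := Module.compHom _ ((RingHom.id C).fromOpposite mul_comm)
  haveI : IsCentralScalar C (Conormal s) := ⟨fun r m => rfl⟩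
  let ψ : B →ₐ[C] TrivSqZeroExt C (Conormal s) :=
    AlgHom.ofLinearMap ((TrivSqZeroExt.inlAlgHom C C (Conormal s)).toLinearMap ∘ₗ s.toLinearMap +
        (TrivSqZeroExt.inrHom C (Conormal s)) ∘ₗ (rel s).mkQ)
      (TrivSqZeroExt.ext (by simp) (by simpa using algebraMap_mem_rel s 1))
      (fun a b => TrivSqZeroExt.ext (by simp) (by simp [mk_mul]))
  let g : TrivSqZeroExt C E →ₐ[C] TrivSqZeroExt C (Conormal s) := TrivSqZeroExt.map f
  have hg : Function.Surjective g := fun x => by
    obtain ⟨e, he⟩ := hf x.snd
    exact ⟨TrivSqZeroExt.inl x.fst + TrivSqZeroExt.inr e, TrivSqZeroExt.ext (by simp [g]) (by simp [g, he])⟩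
  have hnil : IsNilpotent (RingHom.ker g) := ⟨2, by
    rw [Submodule.pow_succ, Submodule.pow_one, Ideal.zero_eq_bot, eq_bot_iff, Ideal.mul_le]
    intro a ha b hb
    have ha' : a.fst = 0 := by simpa [g] using congrArg TrivSqZeroExt.fst (RingHom.mem_ker.mp ha)
    have hb' : b.fst = 0 := by simpa [g] using congrArg TrivSqZeroExt.fst (RingHom.mem_ker.mp hb)
    exact TrivSqZeroExt.ext (by simp [ha']) (by simp [ha', hb'])⟩
  let D := Algebra.FormallySmooth.liftOfSurjective ψ g hg hnil
  have hD : ∀ b, g (D b) = ψ b := Algebra.FormallySmooth.liftOfSurjective_apply ψ g hg hnil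
  have hfst : ∀ b, (D b).fst = s b := fun b => by simpa [g, ψ] using congrArg TrivSqZeroExt.fst (hD b)
  let h0 : B →ₗ[C] E := TrivSqZeroExt.sndHom C E ∘ₗ D.toLinearMap
  have h0rel : rel s ≤ LinearMap.ker h0 := by
    refine sup_le ?_ fun x hx => ?_
    · rintro _ ⟨c, rfl⟩
      simp [h0, TrivSqZeroExt.algebraMap_eq_inl]
    · replace hx : x ∈ RingHom.ker s * RingHom.ker s := hx
      induction hx using Submodule.mul_induction_on' with
      | mem_mul_mem a ha b hb =>
        simp [h0, hfst, show s a = 0 from ha, show s b = 0 from hb]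
      | add x _ y _ hx hy => exact add_mem hx hy
  refine ⟨(rel s).liftQ h0 h0rel, LinearMap.ext fun x => ?_⟩
  obtain ⟨b, rfl⟩ := Submodule.Quotient.mk_surjective _ x
  simpa [g, ψ, h0] using congrArg TrivSqZeroExt.snd (hD b)

variable {s σ} (hσ : IsContraction s σ)

include hσ in
theorem comp_zero_apply (b : B) : comp σ 0 b = algebraMap C B (s b) := by
  rw [comp_apply, coeff_zero_eq_eval_zero, hσ.eval_zero]

include hσ in
theorem comp_comp (n m : ℕ) (b : B) : comp σ n (comp σ m b) = if m = n then comp σ m b else 0 := by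
  rw [comp_apply, comp_apply, hσ.coassoc, coeff_monomial]

theorem comp_algebraMap (n : ℕ) (c : C) : comp σ n (algebraMap C B c) = if n = 0 then algebraMap C B c else 0 := by
  rw [comp_apply, AlgHom.commutes, Polynomial.algebraMap_apply, coeff_C]

include hσ in
theorem sum_comp (b : B) (F : Finset ℕ) (hF : (σ b).support ⊆ F) : ∑ n ∈ F, comp σ n b = b := by
  conv_rhs => rw [← hσ.eval_one b, eval_eq_sum, Polynomial.sum_def]
  refine (Finset.sum_subset hF fun n _ hn => ?_).symm.trans (Finset.sum_congr rfl fun n _ => by simp)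
  simpa using Polynomial.notMem_support_iff.mp hn

include hσ in
theorem comp_mem_ker {n : ℕ} (hn : n ≠ 0) (b : B) : s (comp σ n b) = 0 := by
  have h := comp_zero_apply hσ (comp σ n b)
  rw [comp_comp hσ, if_neg hn] at h
  simpa using (congrArg s h).symm

include hσ in
/-- The components of a product of two elements of the augmentation ideal. -/
theorem comp_mul_mem {S : AddSubmonoid B} {a b : B} (ha : s a = 0) (hb : s b = 0) (n : ℕ)
    (h : ∀ i j, i ≠ 0 → j ≠ 0 → i + j = n → comp σ i a * comp σ j b ∈ S) : comp σ n (a * b) ∈ S := by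
  rw [comp_apply, map_mul, coeff_mul]
  refine S.sum_mem fun x hx => ?_
  rw [Finset.HasAntidiagonal.mem_antidiagonal] at hx
  by_cases h1 : x.1 = 0
  · rw [← comp_apply σ x.1 a, h1, comp_zero_apply hσ, ha, map_zero, zero_mul]; exact S.zero_mem
  by_cases h2 : x.2 = 0
  · rw [← comp_apply σ x.2 b, h2, comp_zero_apply hσ, hb, map_zero, mul_zero]; exact S.zero_mem
  exact h _ _ h1 h2 hx

include hσ in
theorem rel_le_comap (n : ℕ) : rel s ≤ (rel s).comap (comp σ n) := by
  refine sup_le ?_ fun x hx => ?_
  · rintro _ ⟨c, rfl⟩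
    show comp σ n (algebraMap C B c) ∈ rel s
    rw [comp_algebraMap]
    split_ifs
    · exact algebraMap_mem_rel s c
    · exact zero_mem _
  · replace hx : x ∈ RingHom.ker s * RingHom.ker s := hx
    induction hx using Submodule.mul_induction_on' with
    | mem_mul_mem a ha b hb =>
      exact comp_mul_mem hσ (S := (rel s).toAddSubmonoid) ha hb n fun i j hi hj _ =>
        mul_mem_rel s (comp_mem_ker hσ hi a) (comp_mem_ker hσ hj b)
    | add x _ y _ hx hy => exact add_mem hx hy

include hσ in
/-- A homogeneous section of the quotient map onto the conormal module. -/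
theorem exists_section [Algebra.FormallySmooth C B] [Algebra.FiniteType C B] :
    ∃ τ : Conormal s →ₗ[C] B, (∀ x, (Submodule.Quotient.mk (τ x) : Conormal s) = x) ∧ (∀ x, s (τ x) = 0) ∧
      ∀ n b, ∃ y, comp σ n (τ (Submodule.Quotient.mk b)) = τ y := by
  classical
  haveI := projective s
  obtain ⟨t, ht⟩ := exists_span s
  let F : Finset ℕ := t.biUnion fun b => (σ b).support
  obtain ⟨τ0, hτ0⟩ := Module.projective_lifting_property (rel s).mkQ LinearMap.id (Submodule.mkQ_surjective _)
  let bar : ℕ → Conormal s →ₗ[C] Conormal s := fun n => Submodule.mapQ _ _ (comp σ n) (rel_le_comap hσ n)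
  have hbar : ∀ n b, bar n (Submodule.Quotient.mk b) = Submodule.Quotient.mk (comp σ n b) := fun n b => rfl
  have hbb : ∀ n m x, bar n (bar m x) = if m = n then bar m x else 0 := fun n m x => by
    obtain ⟨b, rfl⟩ := Submodule.Quotient.mk_surjective _ x
    rw [hbar, hbar, comp_comp hσ]
    split_ifs <;> simp
  have hsum : (∑ n ∈ F, bar n) = LinearMap.id := by
    refine LinearMap.ext_on ht ?_
    rintro _ ⟨b, hb, rfl⟩
    rw [LinearMap.sum_apply, LinearMap.id_apply]
    simp only [hbar]
    rw [show ∑ n ∈ F, (Submodule.Quotient.mk (comp σ n b) : Conormal s) = (rel s).mkQ (∑ n ∈ F, comp σ n b) from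
      (map_sum (rel s).mkQ _ _).symm, sum_comp hσ b F (fun n hn => Finset.mem_biUnion.mpr ⟨b, hb, hn⟩)]
    rfl
  let τ : Conormal s →ₗ[C] B := ∑ n ∈ F, comp σ n ∘ₗ τ0 ∘ₗ bar n
  have hτ : ∀ x, τ x = ∑ n ∈ F, comp σ n (τ0 (bar n x)) := fun x => by
    simp only [τ, LinearMap.sum_apply, LinearMap.comp_apply]
  have hτ0' : ∀ x, (Submodule.Quotient.mk (τ0 x) : Conormal s) = x := LinearMap.congr_fun hτ0
  refine ⟨τ, fun x => ?_, fun x => ?_, fun n b => ⟨bar n (Submodule.Quotient.mk b), ?_⟩⟩
  · rw [hτ, ← Submodule.mkQ_apply, map_sum]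
    simp only [Submodule.mkQ_apply, ← hbar, hτ0', hbb, if_true]
    rw [← LinearMap.sum_apply, hsum, LinearMap.id_apply]
  · rw [hτ, map_sum]
    refine Finset.sum_eq_zero fun n _ => ?_
    rcases eq_or_ne n 0 with rfl | hn
    · obtain ⟨b, rfl⟩ := Submodule.Quotient.mk_surjective _ x
      rw [hbar, comp_zero_apply hσ b, (Submodule.Quotient.mk_eq_zero _).mpr (algebraMap_mem_rel s _)]
      simp
    · exact comp_mem_ker hσ hn _
  · rw [hτ, hτ, map_sum]
    refine Finset.sum_congr rfl fun m _ => ?_
    rw [comp_comp hσ, hbb]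
    by_cases h : m = n
    · subst h; rw [if_pos rfl, if_pos rfl]
    · rw [if_neg h, if_neg (Ne.symm h), map_zero, map_zero]

/-- Powers of the irrelevant ideal of a symmetric algebra have zero intersection. -/
theorem eq_zero_of_mem_pow {P : Type u} [AddCommGroup P] [Module C P] (x : SymmetricAlgebra C P)
    (h : ∀ k : ℕ, x ∈ RingHom.ker (SymmetricAlgebra.algebraMapInv : SymmetricAlgebra C P →ₐ[C] C) ^ k) : x = 0 := by
  let A := SymmetricAlgebra C P
  let θ : A →ₐ[C] A[X] := SymmetricAlgebra.lift
    ((monomial 1).restrictScalars C ∘ₗ SymmetricAlgebra.ι C P)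
  have h1 : ((aeval (R := A) (1 : A)).restrictScalars C).comp θ = AlgHom.id C A :=
    SymmetricAlgebra.algHom_ext (LinearMap.ext fun p => by simp [θ, A])
  have h0 : ((aeval (R := A) (0 : A)).restrictScalars C).comp θ =
      (Algebra.ofId C A).comp SymmetricAlgebra.algebraMapInv :=
    SymmetricAlgebra.algHom_ext (LinearMap.ext fun p => by simp [θ, A, SymmetricAlgebra.algebraMapInv])
  have hI : (RingHom.ker (SymmetricAlgebra.algebraMapInv : A →ₐ[C] C)).map θ ≤ Ideal.span {X} := by
    rw [Ideal.map_le_iff_le_comap]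
    intro y hy
    rw [Ideal.mem_comap, Ideal.mem_span_singleton, X_dvd_iff, coeff_zero_eq_eval_zero]
    refine Eq.trans ?_ (show algebraMap C A (SymmetricAlgebra.algebraMapInv y) = 0 by
      rw [RingHom.mem_ker] at hy; rw [hy, map_zero])
    simpa [coe_aeval_eq_eval] using AlgHom.congr_fun h0 y
  have hz : θ x = 0 := by
    by_contra hne
    have h2 : θ x ∈ Ideal.span {(X : A[X])} ^ ((θ x).natDegree + 1) := by
      refine Ideal.pow_right_mono hI _ ?_
      rw [← Ideal.map_pow]
      exact Ideal.mem_map_of_mem _ (h _)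
    rw [Ideal.span_singleton_pow, Ideal.mem_span_singleton, X_pow_dvd_iff] at h2
    exact hne (Polynomial.leadingCoeff_eq_zero.mp (h2 _ (Nat.lt_succ_self _)))
  have := AlgHom.congr_fun h1 x
  simpa [hz] using this.symm

include hσ in
/-- A smooth augmented algebra with a contraction is the symmetric algebra of its conormal module. -/
theorem exists_equiv [Algebra.FormallySmooth C B] [Algebra.FiniteType C B] :
    Nonempty (SymmetricAlgebra C (Conormal s) ≃ₐ[C] B) := by
  classical
  obtain ⟨τ, hτq, hτs, hτc⟩ := exists_section hσ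
  let φ : SymmetricAlgebra C (Conormal s) →ₐ[C] B := SymmetricAlgebra.lift τ
  have hφι : ∀ y, φ (SymmetricAlgebra.ι C _ y) = τ y := SymmetricAlgebra.lift_ι_apply τ
  have hsurj : Function.Surjective φ := by
    suffices h : ∀ n b, comp σ n b ∈ φ.range by
      intro b
      rw [← sum_comp hσ b _ subset_rfl]
      exact φ.range.sum_mem fun n _ => h n b
    intro n
    induction n using Nat.strong_induction_on with
    | _ n ih =>
      intro b
      rcases eq_or_ne n 0 with rfl | hn
      · rw [comp_zero_apply hσ]; exact φ.range.algebraMap_mem _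
      set b' := comp σ n b with hb'
      have hfix : comp σ n b' = b' := by rw [hb', comp_comp hσ, if_pos rfl]
      set d := b' - τ (Submodule.Quotient.mk b') with hd
      have hdJ : d ∈ RingHom.ker s * RingHom.ker s := mem_sq_of_mk_eq_zero s
        (by rw [hd, map_sub, hτs, sub_zero]; exact comp_mem_ker hσ hn b)
        (by rw [hd, Submodule.Quotient.mk_sub, hτq, sub_self])
      have h1 : comp σ n d ∈ φ.range := by
        clear_value d
        clear hd
        induction hdJ using Submodule.mul_induction_on' with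
        | mem_mul_mem a ha c hc =>
          exact comp_mul_mem hσ (S := φ.range.toSubsemiring.toAddSubmonoid) ha hc n fun i j hi hj hij =>
            φ.range.mul_mem (ih i (by omega) a) (ih j (by omega) c)
        | add x _ y _ hx hy => rw [map_add]; exact add_mem hx hy
      obtain ⟨y, hy⟩ := hτc n b'
      have h2 : b' = comp σ n d + τ y := by
        rw [hd, map_sub, hfix, ← hy, sub_add_cancel]
      rw [h2]
      exact add_mem h1 ⟨SymmetricAlgebra.ι C _ y, hφι y⟩
  let I : Ideal (SymmetricAlgebra C (Conormal s)) :=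
    RingHom.ker (SymmetricAlgebra.algebraMapInv : SymmetricAlgebra C (Conormal s) →ₐ[C] C)
  let am := algebraMap C (SymmetricAlgebra C (Conormal s))
  have hsφ : ∀ x, s (φ x) = SymmetricAlgebra.algebraMapInv x :=
    AlgHom.congr_fun (φ₁ := s.comp φ) (SymmetricAlgebra.algHom_ext (LinearMap.ext fun p => by
      simp [φ, hτs, SymmetricAlgebra.algebraMapInv]))
  have hι : ∀ p, SymmetricAlgebra.ι C (Conormal s) p ∈ I := fun p => SymmetricAlgebra.algebraMapInv_ι p
  have hsub : ∀ x, x - am (SymmetricAlgebra.algebraMapInv x) ∈ I := fun x => by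
    rw [RingHom.mem_ker, map_sub, AlgHom.commutes]; simp
  have hlin : ∀ x, x - (am (SymmetricAlgebra.algebraMapInv x) +
      SymmetricAlgebra.ι C _ (Submodule.Quotient.mk (φ x))) ∈ I ^ 2 := by
    intro x
    induction x using SymmetricAlgebra.induction with
    | algebraMap c =>
      rw [AlgHom.commutes, AlgHom.commutes, (Submodule.Quotient.mk_eq_zero _).mpr (algebraMap_mem_rel s c)]
      simp [am]
    | ι p => simp [hφι, hτq, am, SymmetricAlgebra.algebraMapInv_ι]
    | add x y hx hy =>
      rw [map_add, map_add, map_add, Submodule.Quotient.mk_add, map_add]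
      convert add_mem hx hy using 1
      abel
    | mul x y hx hy =>
      rw [map_mul, map_mul, map_mul, mk_mul, hsφ, hsφ, map_add, map_smul, map_smul, Algebra.smul_def, Algebra.smul_def]
      have hxy : (x - am (SymmetricAlgebra.algebraMapInv x)) * (y - am (SymmetricAlgebra.algebraMapInv y)) ∈ I ^ 2 := by
        rw [pow_two]; exact Ideal.mul_mem_mul (hsub x) (hsub y)
      convert add_mem hxy (add_mem (Ideal.mul_mem_left _ (am (SymmetricAlgebra.algebraMapInv x)) hy)
        (Ideal.mul_mem_left _ (am (SymmetricAlgebra.algebraMapInv y)) hx)) using 1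
      simp only [am]
      ring
  -- the first order inverse
  let ψ : B →ₐ[C] SymmetricAlgebra C (Conormal s) ⧸ I ^ 2 :=
    AlgHom.ofLinearMap ((Ideal.Quotient.mkₐ C (I ^ 2)).toLinearMap ∘ₗ
        (Algebra.linearMap C _ ∘ₗ s.toLinearMap + SymmetricAlgebra.ι C _ ∘ₗ (rel s).mkQ))
      (by
        have h0 : (Submodule.Quotient.mk (1 : B) : Conormal s) = 0 := by
          rw [← map_one (algebraMap C B)]; exact (Submodule.Quotient.mk_eq_zero _).mpr (algebraMap_mem_rel s 1)
        simp [h0])
      (fun a b => by
        show Ideal.Quotient.mk (I ^ 2) (am (s (a * b)) + SymmetricAlgebra.ι C _ (Submodule.Quotient.mk (a * b))) =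
          Ideal.Quotient.mk (I ^ 2) (am (s a) + SymmetricAlgebra.ι C _ (Submodule.Quotient.mk a)) *
            Ideal.Quotient.mk (I ^ 2) (am (s b) + SymmetricAlgebra.ι C _ (Submodule.Quotient.mk b))
        rw [← map_mul (Ideal.Quotient.mk (I ^ 2)), Ideal.Quotient.mk_eq_mk_iff_sub_mem, mk_mul, map_mul s, map_mul am,
          map_add, map_smul, map_smul, Algebra.smul_def, Algebra.smul_def]
        have hιι : SymmetricAlgebra.ι C _ (Submodule.Quotient.mk a : Conormal s) *
            SymmetricAlgebra.ι C _ (Submodule.Quotient.mk b : Conormal s) ∈ I ^ 2 := by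
          rw [pow_two]; exact Ideal.mul_mem_mul (hι _) (hι _)
        convert (I ^ 2).neg_mem hιι using 1
        ring)
  have hψ : ∀ x, ψ (φ x) = Ideal.Quotient.mk (I ^ 2) x := fun x => by
    refine ((Ideal.Quotient.mk_eq_mk_iff_sub_mem _ _).mpr ?_).symm
    show x - (am (s (φ x)) + SymmetricAlgebra.ι C _ (Submodule.Quotient.mk (φ x))) ∈ I ^ 2
    rw [hsφ]
    exact hlin x
  have hstep : ∀ k x, φ x = 0 → x ∈ I ^ k → x ∈ I ^ (k + 1) := by
    intro k x hx0 hxk
    let Jk : Ideal (SymmetricAlgebra C (Conormal s)) := (I ^ 2) ^ (k + 1)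
    have hle : Jk ≤ I ^ 2 := Ideal.pow_le_self (Nat.succ_ne_zero k)
    let g : SymmetricAlgebra C (Conormal s) ⧸ Jk →ₐ[C] SymmetricAlgebra C (Conormal s) ⧸ I ^ 2 :=
      Ideal.Quotient.factorₐ C hle
    have hg : Function.Surjective g := Ideal.Quotient.factor_surjective hle
    have hker : RingHom.ker g ≤ (I ^ 2).map (Ideal.Quotient.mk Jk) := fun z hz => by
      obtain ⟨w, rfl⟩ := Ideal.Quotient.mk_surjective z
      refine Ideal.mem_map_of_mem _ (Ideal.Quotient.eq_zero_iff_mem.mp ?_)
      rw [← Ideal.Quotient.factor_mk hle w]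
      exact hz
    have hnil : IsNilpotent (RingHom.ker g) := ⟨k + 1, by
      rw [Ideal.zero_eq_bot, eq_bot_iff]
      refine (Ideal.pow_right_mono hker _).trans ?_
      rw [← Ideal.map_pow, Ideal.map_quotient_self]⟩
    let D := Algebra.FormallySmooth.liftOfSurjective ψ g hg hnil
    have hD : ∀ z, D (φ z) - Ideal.Quotient.mk Jk z ∈ (I ^ 2).map (Ideal.Quotient.mk Jk) := fun z => by
      refine hker ?_
      rw [RingHom.mem_ker, map_sub, Algebra.FormallySmooth.liftOfSurjective_apply ψ g hg hnil, hψ]
      simp [g]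
    have hmain : ∀ m, ∀ z ∈ I ^ m, D (φ z) - Ideal.Quotient.mk Jk z ∈ (I ^ (m + 1)).map (Ideal.Quotient.mk Jk) := by
      intro m
      induction m with
      | zero => exact fun z _ => Ideal.map_mono (by rw [zero_add, pow_one]; exact Ideal.pow_le_self two_ne_zero) (hD z)
      | succ m ihm =>
        intro z hz
        rw [pow_succ'] at hz
        induction hz using Submodule.mul_induction_on' with
        | mem_mul_mem a ha b hb =>
          have h1 : D (φ a) - Ideal.Quotient.mk Jk a ∈ (I ^ 2).map (Ideal.Quotient.mk Jk) := hD a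
          have h2 : D (φ b) ∈ (I ^ m).map (Ideal.Quotient.mk Jk) := by
            have := add_mem (Ideal.map_mono (Ideal.pow_le_pow_right (Nat.le_succ m)) (ihm b hb))
              (Ideal.mem_map_of_mem (Ideal.Quotient.mk Jk) hb)
            simpa using this
          have h3 := Ideal.mul_mem_mul h1 h2
          rw [← Ideal.map_mul, ← pow_add, show 2 + m = m + 1 + 1 by ring] at h3
          have h4 := Ideal.mul_mem_mul (Ideal.mem_map_of_mem (Ideal.Quotient.mk Jk) ha) (ihm b hb)
          rw [← Ideal.map_mul, ← pow_succ'] at h4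
          convert add_mem h3 h4 using 1
          rw [map_mul, map_mul, map_mul]
          ring
        | add z _ w _ hz hw =>
          rw [map_add, map_add, map_add]
          convert add_mem hz hw using 1
          abel
    have h5 := hmain k x hxk
    rw [hx0, map_zero, zero_sub, neg_mem_iff, Ideal.mem_map_iff_of_surjective _ Ideal.Quotient.mk_surjective] at h5
    obtain ⟨w, hw, hwx⟩ := h5
    rw [Ideal.Quotient.mk_eq_mk_iff_sub_mem] at hwx
    have h6 : Jk ≤ I ^ (k + 1) := by
      rw [show Jk = I ^ (2 * (k + 1)) from (pow_mul I 2 (k + 1)).symm]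
      exact Ideal.pow_le_pow_right (by omega)
    simpa using sub_mem hw (h6 hwx)
  have hinj : Function.Injective φ := (injective_iff_map_eq_zero φ).mpr fun x hx =>
    eq_zero_of_mem_pow x fun k => by
      induction k with
      | zero => simp
      | succ k ih => exact hstep k x hx ih
  exact ⟨AlgEquiv.ofBijective φ ⟨hinj, hsurj⟩⟩

end Groth.Agent.MagnetLib.VB
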